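import Cfsg.Agent.Lib.Fischer.Core.Basic
import Cfsg.Agent.Lib.ThreeTransp.OddMain

/-!
Fischer's theorem: a noncentral three-core of a commuting group gives the pairs of five points.
-/

set_option autoImplicit false
set_option linter.unusedSectionVars false

namespace Cfsg.Agent.Fischer

open Cfsg.Agent.ThreeTransp
open Cfsg.Agent.ThreeTransp.Factor (nb Hd)

universe u

variable {G : Type u} [Group G] [Finite G] {D : Set G}

/-- An odd involution of five points is a transposition. -/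
theorem odd_five : ∀ σ : Equiv.Perm (Fin 5), σ * σ = 1 → Equiv.Perm.sign σ = -1 →
    σ.support.card = 2 := by
  decide +kernel

/-- A class of three-transpositions generating the symmetric group of degree five. -/
theorem image_five (h : Std D) (e : G ≃* Equiv.Perm (Fin 5)) :
    e '' D = {σ : Equiv.Perm (Fin 5) | σ.IsSwap} := by
  classical
  obtain ⟨d, hd, -⟩ := h.wide
  have hsq : ∀ a ∈ D, e a * e a = 1 := fun a ha => by rw [← map_mul, Classes.sq h.grp ha, map_one]
  have hsame : ∀ a ∈ D, Equiv.Perm.sign (e a) = Equiv.Perm.sign (e d) := by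
    intro a ha
    obtain ⟨g, rfl⟩ := h.prim.1 d hd a ha
    simp only [map_mul, map_inv, Int.units_inv_eq_self]
    rw [mul_comm (Equiv.Perm.sign (e g)), mul_assoc, Int.units_mul_self, mul_one]
  have hodd : Equiv.Perm.sign (e d) = -1 := by
    refine (Int.units_eq_one_or _).resolve_left fun h1 => ?_
    have hle : Subgroup.closure D ≤ (Equiv.Perm.sign.comp e.toMonoidHom).ker :=
      (Subgroup.closure_le _).2 fun a ha => (hsame a ha).trans h1
    rw [h.grp.2.2] at hle
    have := hle (Subgroup.mem_top (e.symm (Equiv.swap 0 1)))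
    rw [MonoidHom.mem_ker, MonoidHom.comp_apply, MulEquiv.coe_toMonoidHom, e.apply_symm_apply,
      Equiv.Perm.sign_swap (by decide)] at this
    exact absurd this (by decide)
  have hswap : ∀ a ∈ D, (e a).IsSwap := fun a ha =>
    Equiv.Perm.card_support_eq_two.1 (odd_five _ (hsq a ha) ((hsame a ha).trans hodd))
  refine Set.Subset.antisymm (by rintro _ ⟨a, ha, rfl⟩; exact hswap a ha) ?_
  rintro σ ⟨p, q, hpq, rfl⟩
  obtain ⟨r, t, hrt, hd'⟩ := hswap d hd
  obtain ⟨c, hc⟩ := isConj_iff.1 (Equiv.Perm.isConj_swap hrt hpq)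
  refine ⟨e.symm c * d * (e.symm c)⁻¹, h.grp.2.1 _ d hd, ?_⟩
  rw [map_mul, map_mul, map_inv, e.apply_symm_apply, hd', hc]

/-- The odd case. -/
theorem Std.sym_five (h : Std D) {x : G} (hx : x ∈ D)
    (h3 : ¬ Cfsg.pCore 3 ↥(Hd D x) ≤ Subgroup.center ↥(Hd D x)) :
    ∃ e : G ≃* Equiv.Perm (Fin 5), e '' D = {σ : Equiv.Perm (Fin 5) | σ.IsSwap} := by
  have : Fact (Nat.Prime 3) := ⟨Nat.prime_three⟩
  have : (Cfsg.pCore 3 ↥(Hd D x)).Normal := Cores.pCore_normal 3
  have hodd : Cfsg.pCore 3 ↥(Hd D x) ≤ Cfsg.oddCore ↥(Hd D x) := Cores.le_oddCore (by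
    obtain ⟨k, hk⟩ := IsPGroup.iff_card.1 (Cores.pCore_isPGroup (G := ↥(Hd D x)) 3)
    rw [hk]; exact Odd.pow (by decide))
  obtain ⟨e⟩ := OddMain.main h.sol_bot h.perfect h.cls hx fun k => h3 (hodd.trans k)
  exact ⟨e, image_five h e⟩

theorem Std.types_odd (h : Std D) {x : G} (hx : x ∈ D)
    (h3 : ¬ Cfsg.pCore 3 ↥(Hd D x) ≤ Subgroup.center ↥(Hd D x)) : Types D := by
  obtain ⟨e, he⟩ := h.sym_five hx h3
  exact .sym 5 le_rfl (GIso.of_iso e (he ▸ swaps_giso 5))

end Cfsg.Agent.Fischer
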