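import Cfsg.Agent.Lib.Fischer.Core.Basic
import Cfsg.Agent.Lib.ThreeTransp.Polar.Symp
import Cfsg.Agent.Lib.ThreeTransp.Polar.OddSize
import Cfsg.Agent.Lib.ThreeTransp.Polar.UnitMain

/-!
Fischer's theorem: a noncentral two-core of a commuting group gives a symplectic or a unitary graph.
-/

set_option autoImplicit false
set_option linter.unusedSectionVars false

namespace Cfsg.Agent.Fischer

open Cfsg.Agent.ThreeTransp
open Cfsg.Agent.ThreeTransp.Factor (nb Hd)
open Cfsg.Agent.InvChar.Coset (FF)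

universe u

variable {G : Type u} [Group G] [Finite G] {D : Set G}

theorem Std.polar_ctx (h : Std D) : Polar.Ctx D := ⟨h.grp, h.prim, h.wide, h.cores.1, h.cent⟩

section Symp

open Cfsg.Agent.ThreeTransp.Polar.Symp
open Matrix

theorem spP_one (v w : Fin 1 ⊕ Fin 1 → ZMod 2) (hv : v ≠ 0) (hw : w ≠ 0)
    (h : Cfsg.sympForm 1 (ZMod 2) v w = 0) : v = w := by
  have key : ∀ a b c d : ZMod 2, ¬ (a = 0 ∧ b = 0) → ¬ (c = 0 ∧ d = 0) → b * c + a * d = 0 →
      a = c ∧ b = d := by decide
  have e : ∀ u : Fin 1 ⊕ Fin 1 → ZMod 2, u ≠ 0 → ¬ (u (.inl 0) = 0 ∧ u (.inr 0) = 0) :=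
    fun u hu k => hu (funext fun i => by
      rcases i with i | i <;> obtain rfl := Subsingleton.elim i 0
      exacts [k.1, k.2])
  have h' : v (.inr 0) * w (.inl 0) + v (.inl 0) * w (.inr 0) = 0 := by
    simp [Cfsg.sympForm, Matrix.J, dotProduct, Matrix.mulVec, Fintype.sum_sum_type,
      Matrix.fromBlocks] at h
    linear_combination h
  obtain ⟨k1, k2⟩ := key _ _ _ _ (e v hv) (e w hw) h'
  funext i
  rcases i with i | i <;> obtain rfl := Subsingleton.elim i 0
  exacts [k1, k2]

/-- Lines of three: the members are the points of a symplectic space. -/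
theorem symp_giso (C : Polar.Ctx D) (h3 : ThreeLines D) : ∃ m, 2 ≤ m ∧ GIso D (spR m) := by
  classical
  obtain ⟨m, hm⟩ := Forms.Bases.even_finrank_of_alt (form C h3) (form_alt C h3) (form_nondeg C h3)
  obtain ⟨b, h12, h11, h22⟩ :=
    Forms.Bases.exists_sympBasis (form C h3) (form_alt C h3) (form_nondeg C h3) hm
  let co : ↥(space C h3) ≃ₗ[ZMod 2] (Fin m ⊕ Fin m → ZMod 2) := b.equivFun
  have hform : ∀ v w, Cfsg.sympForm m (ZMod 2) (co v) (co w) = form C h3 v w := by
    intro v w
    have e : (Forms.SympStd.sympB m (ZMod 2)).compl₁₂ co.toLinearMap co.toLinearMap =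
        form C h3 := by
      refine LinearMap.ext_basis b b fun i j => ?_
      have one : ∀ t : ZMod 2, -t = t := by decide
      have sw : ∀ i j, form C h3 (b i) (b j) = form C h3 (b j) (b i) := fun i j => by
        simp only [form_apply]; exact pair_symm C h3 _ _
      simp only [LinearMap.compl₁₂_apply, LinearEquiv.coe_coe, Forms.SympStd.sympB_apply, co,
        Module.Basis.equivFun_apply, Module.Basis.repr_self, Finsupp.single_eq_pi_single]
      rcases i with i | i <;> rcases j with j | j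
      · rw [h11, Forms.SympStd.sympForm_inl_inl]
      · rw [h12, Forms.SympStd.sympForm_inl_inr]
        split <;> simp [one]
      · rw [sw, h12, Forms.SympStd.sympForm_inr_inl]
        split <;> split <;> simp_all
      · rw [h22, Forms.SympStd.sympForm_inr_inr]
    rw [← e]
    simp [Forms.SympStd.sympB_apply]
  have hne : ∀ d : ↥D, co (vec C h3 d) ≠ 0 := fun d k =>
    phi_ne_zero C d (congrArg Subtype.val (co.map_eq_zero_iff.1 k))
  have hc : ∀ d e : ↥D, Commute (d : G) (e : G) ↔
      Cfsg.sympForm m (ZMod 2) (co (vec C h3 d)) (co (vec C h3 e)) = 0 := fun d e => by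
    rw [hform, form_apply, pair_vec]
    exact Iff.trans (by exact ⟨Commute.symm, Commute.symm⟩) phi_eq_zero.symm
  let φ : ↥D → SpP m := fun d => ⟨co (vec C h3 d), hne d⟩
  have hinj : Function.Injective φ := fun d e k =>
    phi_inj C (congrArg Subtype.val (co.injective (congrArg Subtype.val k)))
  refine ⟨m, ?_, Equiv.ofBijective φ ⟨hinj, fun v => ?_⟩, fun d e => hc d e⟩
  · obtain ⟨p, hp, q, hq, hpq, hcm⟩ := C.wide
    by_contra hlt
    have hd := hne ⟨p, hp⟩
    have he := hne ⟨q, hq⟩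
    have h0 := (hc ⟨p, hp⟩ ⟨q, hq⟩).1 hcm
    refine hpq (congrArg Subtype.val (phi_inj C (congrArg Subtype.val
      (co.injective (?_ : co (vec C h3 ⟨p, hp⟩) = co (vec C h3 ⟨q, hq⟩))))))
    generalize co (vec C h3 ⟨p, hp⟩) = v at hd h0
    generalize co (vec C h3 ⟨q, hq⟩) = w at he h0
    obtain rfl | rfl : m = 0 ∨ m = 1 := by omega
    · exact absurd (funext fun i => i.elim Fin.elim0 Fin.elim0) hd
    · exact spP_one v w hd he h0
  · obtain ⟨d, hd⟩ := (vec_cases C h3 (co.symm v.1)).resolve_left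
      fun k => v.2 (by simpa using congrArg co k)
    exact ⟨d, Subtype.ext (by show co (vec C h3 d) = v.1; rw [hd, LinearEquiv.apply_symm_apply])⟩

end Symp

section Unit

open Cfsg.Agent.ThreeTransp.Polar.Unit

theorem uR_span {n : ℕ} {L M : UP n} {v w : Fin n → FF} (hL : L.1 = Submodule.span FF {v})
    (hM : M.1 = Submodule.span FF {w}) : uR n L M ↔ Cfsg.hermForm n FF 2 v w = 0 := by
  constructor
  · intro h
    exact h v (hL ▸ Submodule.mem_span_singleton_self v) w (hM ▸ Submodule.mem_span_singleton_self w)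
  · intro h p hp q hq
    rw [hL, Submodule.mem_span_singleton] at hp
    rw [hM, Submodule.mem_span_singleton] at hq
    obtain ⟨r, rfl⟩ := hp
    obtain ⟨s, rfl⟩ := hq
    have e : Cfsg.hermForm n FF 2 (r • v) (s • w) = r * s ^ 2 * Cfsg.hermForm n FF 2 v w := by
      simp only [Cfsg.hermForm, Pi.smul_apply, smul_eq_mul, Finset.mul_sum]
      exact Finset.sum_congr rfl fun i _ => by ring
    rw [e, h, mul_zero]

/-- Lines of five: the members are the isotropic points of a unitary space. -/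
theorem unit_giso {a b : G} (F : Frame D a b) : ∃ n, 4 ≤ n ∧ GIso D (uR n) := by
  classical
  obtain ⟨n, hn4, e, he⟩ : ∃ n, 4 ≤ n ∧ ∃ e : Module.Basis (Fin n) K (V F),
      ∀ i j, H F (e i) (e j) = if i = j then 1 else 0 :=
    ⟨_, four_le_finrank F,
      Forms.Bases.exists_orthonormal_basis σ σ_ne_id σ_σ (H F) (H_isSymm F) (H_sep F)⟩
  let co : V F ≃ₗ[K] (Fin n → K) := e.equivFun
  have hform : ∀ u v : V F, Cfsg.hermForm n K 2 (co u) (co v) = H F v u := by
    intro u v
    conv_rhs => rw [← e.sum_equivFun u, ← e.sum_equivFun v]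
    simp only [map_sum, LinearMap.sum_apply, LinearMap.map_smulₛₗ, LinearMap.smul_apply,
      RingHom.id_apply, smul_eq_mul]
    simp only [he, Cfsg.hermForm, co, Finset.mul_sum, mul_ite, mul_one, mul_zero, ite_mul, zero_mul,
      Finset.sum_ite_eq', Finset.sum_ite_eq, Finset.mem_univ, if_true, σ_apply, pow_two, smul_eq_mul]
  obtain ⟨ρ⟩ : Nonempty (K ≃+* FF) :=
    ⟨FiniteField.ringEquivOfCardEq (by rw [card_K, Cfsg.Agent.InvChar.Coset.FF.card])⟩
  let cv : V F → Fin n → FF := fun v i => ρ (co v i)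
  have hcv : ∀ u v, Cfsg.hermForm n FF 2 (cv u) (cv v) = ρ (H F v u) := fun u v => by
    rw [← hform]; simp [Cfsg.hermForm, cv, map_sum]
  have cv_smul : ∀ (c : K) u, cv (c • u) = ρ c • cv u := fun c u => funext fun i => by
    simp [cv]
  have cv_zero : ∀ u, cv u = 0 → u = 0 := fun u k => co.map_eq_zero_iff.1 (funext fun i => by
    have := congrFun k i
    simpa [cv] using this)
  let φ : ↥D → UP n := fun d => ⟨Submodule.span FF {cv (Psi F d)}, cv (Psi F d),
    fun k => Psi_ne_zero F d (cv_zero _ k), by rw [hcv, Psi_iso F d.2, map_zero], rfl⟩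
  have hinj : Function.Injective φ := by
    intro d d' k
    have k' : Submodule.span FF {cv (Psi F d)} = Submodule.span FF {cv (Psi F d')} :=
      congrArg Subtype.val k
    obtain ⟨c, hc⟩ := Submodule.mem_span_singleton.1
      (k' ▸ Submodule.mem_span_singleton_self (cv (Psi F d)))
    have hc' : Psi F d = ρ.symm c • Psi F d' := co.injective (funext fun i => ρ.injective (by
      have := congrFun hc.symm i
      simpa [cv] using this))
    exact Subtype.ext (Psi_inj F d.2 d'.2 ⟨ρ.symm c, fun k0 => Psi_ne_zero F d (by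
      rw [hc', k0, zero_smul]), hc'⟩)
  refine ⟨n, hn4, Equiv.ofBijective φ ⟨hinj, ?_⟩, fun d d' => ?_⟩
  · rintro ⟨L, v, hv0, hv, rfl⟩
    obtain ⟨u, hu⟩ : ∃ u, cv u = v :=
      ⟨co.symm fun i => ρ.symm (v i), funext fun i => by simp [cv]⟩
    have hu0 : u ≠ 0 := fun k => hv0 (by rw [← hu, k]; funext i; simp [cv])
    have hu1 : H F u u = 0 := ρ.injective (by rw [← hcv, hu, hv, map_zero])
    obtain ⟨p, hp, c, hc, hcp⟩ := Psi_surj F hu0 hu1
    refine ⟨⟨p, hp⟩, Subtype.ext ?_⟩
    show Submodule.span FF {cv (Psi F p)} = Submodule.span FF {v}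
    rw [← hu, hcp, cv_smul, Submodule.span_singleton_smul_eq (IsUnit.mk0 _ (by simpa using hc))]
  · rw [(main_props F d d.2).2 d' d'.2]
    show _ ↔ uR n (φ d) (φ d')
    rw [uR_span (L := φ d) (M := φ d') rfl rfl, hcv, H_eq_zero_comm]
    simp

end Unit

/-- The even case. -/
theorem Std.types_polar (h : Std D) {x : G} (hx : x ∈ D)
    (h2 : ¬ Cfsg.pCore 2 ↥(Hd D x) ≤ Subgroup.center ↥(Hd D x)) :
    (∃ m, 2 ≤ m ∧ GIso D (spR m)) ∨ ∃ n, 4 ≤ n ∧ GIso D (uR n) := by
  have C := h.polar_ctx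
  have hodd := Polar.oddLines_of_core C hx h2
  obtain ⟨u, hu, v, hv, huv, hc⟩ := h.wide
  have hall : ∀ p ∈ D, ∀ q ∈ D, p ≠ q → Commute p q →
      (Polar.line D p q).ncard = (Polar.line D u v).ncard :=
    fun p hp q hq hne hpq => Polar.line_card C hp hq hpq hne hu hv hc huv
  rcases Polar.line_size C hu hv hc huv hodd with h3 | h5
  · exact Or.inl (symp_giso C fun p hp q hq hne hpq => (hall p hp q hq hne hpq).trans h3)
  · obtain ⟨b, hb, hub⟩ := Classes.exists_noncomm C.grp C.prim.1 C.prim.2.1 hu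
    exact Or.inr (unit_giso (a := u) (b := b)
      ⟨C, fun p hp q hq hne hpq => (hall p hp q hq hne hpq).trans h5, hu, hb, hub⟩)

end Cfsg.Agent.Fischer
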