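import Cfsg.Agent.Lib.Fischer.Local.Space
import Cfsg.Agent.Lib.ThreeTransp.SymStep.Swaps

/-!
Fischer's theorem: a centreless primitive group has no solvable normal subgroup and a perfect derived
group; the transpositions as a model of the pairs.
-/

set_option autoImplicit false
set_option linter.unusedSectionVars false

namespace Cfsg.Agent.Fischer

open Cfsg.Agent.ThreeTransp
open Cfsg.Agent.ThreeTransp.Factor (nb)
open scoped commutatorElement

universe u v

variable {G : Type u} [Group G] [Finite G] {D : Set G}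

theorem Std.cls (h : Std D) : Cfsg.IsThreeTranspositionClass D := by
  obtain ⟨a, ha, -⟩ := h.wide
  exact mk_class h.grp h.prim.1 ⟨a, ha⟩

theorem Std.simple (h : Std D) : IsSimpleGroup (commutator G) :=
  ((S5361.result h.cls h.cent h.wide).1).2 h.prim

theorem Std.perfect (h : Std D) : ⁅commutator G, commutator G⁆ = commutator G := by
  obtain ⟨a, ha, b, hb, hab, -⟩ := h.wide
  obtain ⟨z2, z3⟩ := Primitive.cores_central h.grp h.prim h.wide
  obtain ⟨L, hLn, hL, -⟩ := Structure.exists_component h.grp h.prim.1 ⟨a, ha, b, hb, hab⟩ z2 z3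
  have := hLn
  rw [S5361.commutator_eq_component hL (Primitive.component_index h.grp h.prim hL)
    Subgroup.index_ne_zero_of_finite]
  exact Components.Basic.component_commutator_self hL

theorem Std.sol_bot (h : Std D) : ∀ N : Subgroup G, N.Normal → Group.IsSolvable ↥N → N = ⊥ := by
  intro N hN hs
  have := hs
  have := h.simple
  rcases IsSimpleGroup.eq_bot_or_eq_top_of_normal (N.subgroupOf (commutator G)) inferInstance with h' | h'
  · rw [Subgroup.subgroupOf_eq_bot, disjoint_iff] at h'
    rw [eq_bot_iff, ← h.cent]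
    refine fun n hn => Subgroup.mem_center_iff.2 fun g => ?_
    have hm : ⁅g, n⁆ ∈ N ⊓ commutator G :=
      ⟨N.mul_mem (hN.conj_mem n hn g) (N.inv_mem hn), by
        rw [commutator_def]
        exact Subgroup.commutator_mem_commutator (Subgroup.mem_top _) (Subgroup.mem_top _)⟩
    rw [h', Subgroup.mem_bot, commutatorElement_eq_one_iff_commute] at hm
    exact hm.eq
  · rw [Subgroup.subgroupOf_eq_top] at h'
    exfalso
    have : Group.IsSolvable ↥(commutator G) :=
      Group.isSolvable_of_isSolvable_injective (Subgroup.inclusion_injective h')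
    have : Nontrivial ↥(commutator G) := IsSimpleGroup.toNontrivial
    refine (Group.IsSolvable.commutator_lt_top_of_nontrivial ↥(commutator G)).ne
      (Subgroup.map_injective (commutator G).subtype_injective ?_)
    rw [Subgroup.map_subtype_commutator, h.perfect, ← MonoidHom.range_eq_map, Subgroup.range_subtype]

theorem GIso.of_iso {M : Type v} [Group M] {P : Type} {R : P → P → Prop} (e : G ≃* M)
    (h : GIso (e '' D) R) : GIso D R := by
  obtain ⟨φ, hφ⟩ := h
  refine ⟨(Equiv.Set.image e D e.injective).trans φ, fun a b => ?_⟩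
  have := hφ (Equiv.Set.image e D e.injective a) (Equiv.Set.image e D e.injective b)
  refine Iff.trans ⟨fun k => k.map e, fun k => ?_⟩ this
  exact e.injective (by rw [map_mul, map_mul]; exact k)

/-- The transpositions commute when their pairs are equal or disjoint. -/
theorem swaps_giso (n : ℕ) : GIso {σ : Equiv.Perm (Fin n) | σ.IsSwap} (symR n) := by
  classical
  have key : ∀ σ : Equiv.Perm (Fin n), σ.IsSwap → ∃ p q, p ≠ q ∧ σ = Equiv.swap p q ∧
      σ.support = {p, q} := by
    rintro σ ⟨p, q, hpq, rfl⟩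
    exact ⟨p, q, hpq, rfl, Equiv.Perm.support_swap hpq⟩
  refine ⟨Equiv.ofBijective (fun σ => (⟨σ.1.support, Equiv.Perm.card_support_eq_two.2 σ.2⟩ : SymP n))
    ⟨fun σ τ h => ?_, fun s => ?_⟩, fun σ τ => ?_⟩
  · obtain ⟨p, q, hpq, e, es⟩ := key _ σ.2
    obtain ⟨r, t, hrt, e', et⟩ := key _ τ.2
    have h' : ({p, q} : Finset (Fin n)) = {r, t} := es.symm.trans ((congrArg Subtype.val h).trans et)
    have hp : p ∈ ({r, t} : Finset (Fin n)) := by rw [← h']; simp
    have hq : q ∈ ({r, t} : Finset (Fin n)) := by rw [← h']; simp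
    simp only [Finset.mem_insert, Finset.mem_singleton] at hp hq
    apply Subtype.ext
    rw [e, e']
    rcases hp with rfl | rfl <;> rcases hq with rfl | rfl <;>
      first | exact absurd rfl hpq | rfl | exact Equiv.swap_comm _ _
  · obtain ⟨p, q, hpq, hs⟩ := Finset.card_eq_two.1 s.2
    exact ⟨⟨Equiv.swap p q, p, q, hpq, rfl⟩, Subtype.ext (by rw [hs]; exact Equiv.Perm.support_swap hpq)⟩
  · obtain ⟨p, q, hpq, e, es⟩ := key _ σ.2
    obtain ⟨r, t, hrt, e', et⟩ := key _ τ.2
    show _ ↔ ((⟨σ.1.support, Equiv.Perm.card_support_eq_two.2 σ.2⟩ : SymP n) =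
      ⟨τ.1.support, Equiv.Perm.card_support_eq_two.2 τ.2⟩ ∨ Disjoint σ.1.support τ.1.support)
    rw [Subtype.mk.injEq, es, et, e, e', SymStep.swap_commute_iff hpq hrt]
    simp only [Finset.disjoint_insert_left, Finset.disjoint_singleton_left, Finset.mem_insert,
      Finset.mem_singleton, not_or]
    constructor
    · rintro (⟨rfl, rfl⟩ | ⟨rfl, rfl⟩ | h)
      · exact Or.inl rfl
      · exact Or.inl (Finset.pair_comm _ _)
      · exact Or.inr ⟨⟨h.1, h.2.1⟩, h.2.2⟩
    · rintro (h | h)
      · have hp : p ∈ ({r, t} : Finset (Fin n)) := by rw [← h]; simp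
        have hq : q ∈ ({r, t} : Finset (Fin n)) := by rw [← h]; simp
        simp only [Finset.mem_insert, Finset.mem_singleton] at hp hq
        rcases hp with rfl | rfl <;> rcases hq with rfl | rfl <;>
          first | exact absurd rfl hpq | exact Or.inl ⟨rfl, rfl⟩ | exact Or.inr (Or.inl ⟨rfl, rfl⟩)
      · exact Or.inr (Or.inr ⟨h.1.1, h.1.2, h.2⟩)

end Cfsg.Agent.Fischer
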